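import Groth.Agent.ReducedDivLib.Count
import Groth.Agent.NormalLib.Serre
import Groth.Agent.CatLib.Basic

/-!
# Reduced principal divisors through a radical ideal of a normal local domain
-/

set_option backward.isDefEq.respectTransparency false
set_option backward.isDefEq.respectTransparency.types false

universe u

open IsLocalRing

namespace ReducedDivLib

variable {R : Type u} [CommRing R] [IsDomain R] [IsNoetherianRing R]

theorem eq_of_le_of_height_eq_one {q p : Ideal R} [q.IsPrime] (hq : q.height = 1) [p.IsPrime] (hle : p ≤ q)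
    (hp : p ≠ ⊥) : p = q := by
  by_contra hne
  have h1 := Ideal.height_strict_mono_of_isPrime_of_isPrime (lt_of_le_of_ne hle hne)
  rw [hq, ENat.lt_one_iff_eq_zero] at h1
  have h2 := Ideal.height_eq_zero_iff.1 h1
  exact hp (le_bot_iff.1 (h2.2 ⟨Ideal.isPrime_bot, le_rfl⟩ bot_le))

theorem height_one_of_minimal {f : R} (hf : f ≠ 0) {q : Ideal R} (hq : q ∈ (Ideal.span {f}).minimalPrimes) :
    q.height = 1 := by
  haveI := hq.isPrime
  refine le_antisymm ?_ ?_
  · refine (Ideal.height_le_spanRank_toENat_of_mem_minimalPrimes _ q hq).trans ?_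
    have h1 : (Ideal.span {f}).spanRank ≤ (1 : Cardinal) :=
      (Submodule.spanRank_span_le_card _).trans (le_of_eq (Cardinal.mk_singleton f))
    exact (Cardinal.toENat.monotone' h1).trans (le_of_eq (by simp))
  · refine Order.one_le_iff_pos.2 (pos_iff_ne_zero.2 fun h0 => hf ?_)
    have h2 := Ideal.height_eq_zero_iff.1 h0
    have : q = ⊥ := le_bot_iff.1 (h2.2 ⟨Ideal.isPrime_bot, le_rfl⟩ bot_le)
    exact Ideal.mem_bot.1 (this ▸ hq.1.2 (Ideal.mem_span_singleton_self f))

theorem minimal_of_height_one {f : R} (hf : f ≠ 0) {q : Ideal R} [q.IsPrime] (hq : q.height = 1) (hfq : f ∈ q) :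
    q ∈ (Ideal.span {f}).minimalPrimes := by
  refine ⟨⟨inferInstance, by rwa [Ideal.span_singleton_le_iff_mem]⟩, fun p hp hle => ?_⟩
  haveI := hp.1
  exact (eq_of_le_of_height_eq_one hq hle fun h =>
    hf (Ideal.mem_bot.1 (h ▸ hp.2 (Ideal.mem_span_singleton_self f)))).ge

theorem exists_dvd_of_mem_span {q : Ideal R} [q.IsPrime] {x y : R}
    (h : algebraMap R (Localization.AtPrime q) x ∈ Ideal.span {algebraMap R (Localization.AtPrime q) y}) :
    ∃ s, s ∉ q ∧ y ∣ s * x := by
  obtain ⟨w, hw⟩ := Ideal.mem_span_singleton'.1 h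
  obtain ⟨z, t, rfl⟩ := IsLocalization.exists_mk'_eq q.primeCompl w
  refine ⟨t, t.2, z, IsLocalization.injective (Localization.AtPrime q) q.primeCompl_le_nonZeroDivisors ?_⟩
  rw [map_mul, map_mul, ← hw, ← IsLocalization.mk'_spec (Localization.AtPrime q) z t]
  ring

variable [IsIntegrallyClosed R]

theorem isDVR_localization {q : Ideal R} [q.IsPrime] (hq : q.height = 1) :
    IsDiscreteValuationRing (Localization.AtPrime q) := by
  let AP := Localization.AtPrime q
  haveI : IsDomain AP := IsLocalization.isDomain_localization q.primeCompl_le_nonZeroDivisors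
  haveI : IsIntegrallyClosed AP := isIntegrallyClosed_of_isLocalization AP q.primeCompl q.primeCompl_le_nonZeroDivisors
  haveI : IsNoetherianRing AP := IsLocalization.isNoetherianRing q.primeCompl AP inferInstance
  have hq0 : q ≠ ⊥ := fun h => by
    have : q.height = 0 := Ideal.height_eq_zero_iff.2
      ⟨⟨inferInstance, bot_le⟩, fun p hp _ => le_trans (le_of_eq h) bot_le⟩
    rw [hq] at this
    exact one_ne_zero this
  obtain ⟨a, haq, ha⟩ := Submodule.exists_mem_ne_zero_of_ne_bot hq0
  have ha' : algebraMap R AP a ≠ 0 := by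
    simpa using (IsLocalization.injective AP q.primeCompl_le_nonZeroDivisors).ne ha
  have ham : algebraMap R AP a ∈ maximalIdeal AP := (IsLocalization.AtPrime.to_map_mem_maximal_iff AP q a).2 haq
  haveI : Nontrivial (AP ⧸ Ideal.span {algebraMap R AP a}) := Ideal.Quotient.nontrivial_iff.2 fun h =>
    (maximalIdeal.isMaximal AP).ne_top (top_le_iff.1 (h ▸ (Ideal.span_singleton_le_iff_mem _).2 ham))
  obtain ⟨P, hP⟩ := associatedPrimes.nonempty AP (AP ⧸ Ideal.span {algebraMap R AP a})
  haveI := hP.isPrime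
  have haP : algebraMap R AP a ∈ P := NormalLib.mem_associatedPrimes_quotient_of_le hP
  have hPq : P.comap (algebraMap R AP) = q := by
    refine eq_of_le_of_height_eq_one hq (fun x hx => ?_) fun h => ha (Ideal.mem_bot.1 (h ▸ (haP : a ∈ P.comap (algebraMap R AP))))
    exact (IsLocalization.AtPrime.to_map_mem_maximal_iff AP q x).1 (le_maximalIdeal (Ideal.IsPrime.ne_top ‹P.IsPrime›) hx)
  have hPm : P = maximalIdeal AP := by
    rw [← Localization.AtPrime.map_eq_maximalIdeal]
    exact (IsLocalization.map_comap q.primeCompl AP P).symm.trans (congrArg (Ideal.map (algebraMap R AP)) hPq)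
  exact NormalLib.isDVR_of_maximalIdeal_mem_associatedPrimes ha' (hPm ▸ hP)

/-- An element of order one generates the maximal ideal at `q`. -/
theorem maximalIdeal_le_span {q : Ideal R} [q.IsPrime] (hq : q.height = 1) {x : R}
    (hx : algebraMap R (Localization.AtPrime q) x ∈ maximalIdeal (Localization.AtPrime q))
    (hx2 : algebraMap R (Localization.AtPrime q) x ∉ maximalIdeal (Localization.AtPrime q) ^ 2) :
    maximalIdeal (Localization.AtPrime q) ≤ Ideal.span {algebraMap R (Localization.AtPrime q) x} := by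
  haveI := isDVR_localization hq
  intro z hz
  rw [Ideal.mem_span_singleton]
  rcases ValuationRing.dvd_total (algebraMap R (Localization.AtPrime q) x) z with h | ⟨w, hw⟩
  · exact h
  by_cases hu : IsUnit w
  · rw [hw]
    exact (hu.mul_right_dvd).2 dvd_rfl
  · refine absurd ?_ hx2
    rw [hw, pow_two]
    exact Ideal.mul_mem_mul hz hu

theorem isReduced_quotient_of_order_one {f : R} (hf : f ≠ 0)
    (h : ∀ (q : Ideal R) [q.IsPrime], q ∈ (Ideal.span {f}).minimalPrimes →
      algebraMap R (Localization.AtPrime q) f ∉ maximalIdeal (Localization.AtPrime q) ^ 2) :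
    IsReduced (R ⧸ Ideal.span {f}) := by
  refine ⟨fun z hz => ?_⟩
  obtain ⟨z, rfl⟩ := Ideal.Quotient.mk_surjective z
  obtain ⟨n, hn⟩ := hz
  rw [← map_pow, Ideal.Quotient.eq_zero_iff_mem] at hn
  rw [Ideal.Quotient.eq_zero_iff_mem, Ideal.mem_span_singleton]
  refine NormalLib.dvd_of_forall_associatedPrimes fun q hq => ?_
  haveI := hq.isPrime
  have hfq := NormalLib.mem_associatedPrimes_quotient_of_le hq
  have hq1 := NormalLib.height_eq_one_of_mem_associatedPrimes hf hq
  have hzq : z ∈ q := (inferInstance : q.IsPrime).mem_of_pow_mem n ((Ideal.span_singleton_le_iff_mem _).2 hfq hn)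
  exact exists_dvd_of_mem_span (maximalIdeal_le_span hq1 ((IsLocalization.AtPrime.to_map_mem_maximal_iff _ q f).2 hfq)
    (h q (minimal_of_height_one hf hq1 hfq)) ((IsLocalization.AtPrime.to_map_mem_maximal_iff _ q z).2 hzq))

theorem exists_order_one {q : Ideal R} [q.IsPrime] (hq : q.height = 1) {K : Ideal R}
    (hK : K.map (algebraMap R (Localization.AtPrime q)) = maximalIdeal (Localization.AtPrime q)) :
    ∃ b ∈ K, algebraMap R (Localization.AtPrime q) b ∉ maximalIdeal (Localization.AtPrime q) ^ 2 := by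
  haveI := isDVR_localization hq
  by_contra hcon
  push Not at hcon
  have hle : maximalIdeal (Localization.AtPrime q) ≤ maximalIdeal (Localization.AtPrime q) • maximalIdeal (Localization.AtPrime q) := by
    rw [smul_eq_mul, ← pow_two]
    conv_lhs => rw [← hK]
    exact Ideal.map_le_iff_le_comap.2 hcon
  exact IsDiscreteValuationRing.not_a_field (Localization.AtPrime q)
    (Submodule.eq_bot_of_le_smul_of_le_jacobson_bot _ _ (IsNoetherian.noetherian _) hle
      (le_of_eq (IsLocalRing.jacobson_eq_maximalIdeal _ bot_ne_top).symm))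

theorem exists_pair {J L : Ideal R} (hJ : J.IsRadical) {f : R} (hfJ : f ∈ J) (hf : f ≠ 0)
    {q₀ : Ideal R} [q₀.IsPrime] (hq₀1 : q₀.height = 1) (hL : ¬ L ≤ q₀) :
    ∃ a b : R, a ∈ L ∧ a ∉ q₀ ∧ b ∈ q₀ ∧ a * b ∈ J ∧
      algebraMap R (Localization.AtPrime q₀) b ∉ maximalIdeal (Localization.AtPrime q₀) ^ 2 := by
  classical
  by_cases hJq : J ≤ q₀
  · have hmapJ : J.map (algebraMap R (Localization.AtPrime q₀)) = maximalIdeal (Localization.AtPrime q₀) := by
      refine le_antisymm ?_ ?_
      · rw [← Localization.AtPrime.map_eq_maximalIdeal]; exact Ideal.map_mono hJq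
      · rw [← Localization.AtPrime.map_eq_maximalIdeal, Ideal.map_le_iff_le_comap]
        intro z hz
        let S := ((J.finite_minimalPrimes_of_isNoetherianRing R).toFinset).filter fun p => ¬ p ≤ q₀
        have hS : ¬ S.inf id ≤ q₀ := fun hle => by
          obtain ⟨p, hp, hpq⟩ := (inferInstance : q₀.IsPrime).inf_le'.1 hle
          exact (Finset.mem_filter.1 hp).2 hpq
        obtain ⟨s, hs, hsq⟩ := SetLike.not_le_iff_exists.1 hS
        have hsz : s * z ∈ J := by
          rw [← hJ.radical, ← Ideal.sInf_minimalPrimes, Submodule.mem_sInf]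
          intro p hp
          haveI := hp.isPrime
          by_cases hpq : p ≤ q₀
          · refine Ideal.mul_mem_left _ _ ?_
            rw [eq_of_le_of_height_eq_one hq₀1 hpq fun h0 => hf (Ideal.mem_bot.1 (h0 ▸ hp.1.2 hfJ))]
            exact hz
          · exact Ideal.mul_mem_right _ _ (Finset.inf_le (f := id)
              (Finset.mem_filter.2 ⟨(Set.Finite.mem_toFinset _).2 hp, hpq⟩) hs)
        rw [Ideal.mem_comap]
        refine (Ideal.unit_mul_mem_iff_mem _ (IsLocalization.map_units (Localization.AtPrime q₀)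
          (⟨s, hsq⟩ : q₀.primeCompl))).1 ?_
        rw [← map_mul]
        exact Ideal.mem_map_of_mem _ hsz
    obtain ⟨b, hbJ, hb2⟩ := exists_order_one hq₀1 hmapJ
    obtain ⟨a, haL, haq⟩ := SetLike.not_le_iff_exists.1 hL
    exact ⟨a, b, haL, haq, hJq hbJ, Ideal.mul_mem_left _ _ hbJ, hb2⟩
  · obtain ⟨b, hbq, hb2⟩ := exists_order_one hq₀1 Localization.AtPrime.map_eq_maximalIdeal
    have hJL : ¬ J * L ≤ q₀ := fun hle => ((inferInstance : q₀.IsPrime).mul_le.1 hle).elim hJq hL
    obtain ⟨a, haJL, haq⟩ := SetLike.not_le_iff_exists.1 hJL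
    exact ⟨a, b, (Ideal.mul_le_right : J * L ≤ L) haJL, haq, hbq, Ideal.mul_mem_right _ _ ((Ideal.mul_le_left : J * L ≤ J) haJL), hb2⟩

/-- A perturbation with strictly more components. -/
theorem exists_more_components [IsLocalRing R] {J : Ideal R} (hJ : J.IsRadical) (hJm : J ≤ maximalIdeal R) {f h : R}
    (hfJ : f ∈ J) (hf : f ≠ 0) (hh : h ∈ maximalIdeal R) (hhq : ∀ q ∈ (Ideal.span {f}).minimalPrimes, h ∉ q)
    (q₀ : Ideal R) [q₀.IsPrime] (hq₀ : q₀ ∈ (Ideal.span {f}).minimalPrimes)
    (hbad : algebraMap R (Localization.AtPrime q₀) f ∈ maximalIdeal (Localization.AtPrime q₀) ^ 2) :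
    ∃ g ∈ J, g ∈ Ideal.span {h} ∧ f + g ≠ 0 ∧
      ((Ideal.span {f}).minimalPrimes : Set (Ideal R)) ⊂ (Ideal.span {f + g}).minimalPrimes := by
  classical
  have hfin := (Ideal.span {f}).finite_minimalPrimes_of_isNoetherianRing R
  have hq₀1 := height_one_of_minimal hf hq₀
  haveI := isDVR_localization hq₀1
  obtain ⟨N, hN⟩ : ∃ N : ℕ, f ∉ maximalIdeal R ^ N := by
    by_contra hcon
    push Not at hcon
    refine hf ?_
    have : f ∈ ⨅ n : ℕ, maximalIdeal R ^ n := Ideal.mem_iInf.2 hcon
    rwa [Ideal.iInf_pow_eq_bot_of_isLocalRing _ (maximalIdeal.isMaximal R).ne_top, Ideal.mem_bot] at this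
  have hexp : ∀ q ∈ (Ideal.span {f}).minimalPrimes, ∃ n : ℕ, ∀ [q.IsPrime],
      algebraMap R (Localization.AtPrime q) f ∉ maximalIdeal (Localization.AtPrime q) ^ n := by
    intro q hq
    haveI := hq.isPrime
    haveI : IsNoetherianRing (Localization.AtPrime q) := IsLocalization.isNoetherianRing q.primeCompl _ inferInstance
    by_contra hcon
    push Not at hcon
    refine hf (IsLocalization.injective (Localization.AtPrime q) q.primeCompl_le_nonZeroDivisors ?_)
    have : algebraMap R (Localization.AtPrime q) f ∈ ⨅ n : ℕ, maximalIdeal (Localization.AtPrime q) ^ n :=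
      Ideal.mem_iInf.2 fun n => (hcon n).2
    rw [Ideal.iInf_pow_eq_bot_of_isLocalRing _ (maximalIdeal.isMaximal _).ne_top, Ideal.mem_bot] at this
    rw [this, map_zero]
  choose! n hn using hexp
  let others := hfin.toFinset.erase q₀
  let L : Ideal R := Ideal.span {h} * maximalIdeal R ^ N * ∏ q ∈ others, q ^ n q
  have hL : ¬ L ≤ q₀ := by
    intro hle
    rcases (inferInstance : q₀.IsPrime).mul_le.1 hle with h1 | h1
    · rcases (inferInstance : q₀.IsPrime).mul_le.1 h1 with h2 | h2
      · exact hhq q₀ hq₀ ((Ideal.span_singleton_le_iff_mem _).1 h2)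
      · exact hhq q₀ hq₀ (Ideal.IsPrime.le_of_pow_le h2 hh)
    · obtain ⟨q, hq, hqle⟩ := ((inferInstance : q₀.IsPrime).prod_le).1 h1
      obtain ⟨hne, hq'⟩ := Finset.mem_erase.1 hq
      rw [Set.Finite.mem_toFinset] at hq'
      have h2 : q ≤ q₀ := Ideal.IsPrime.le_of_pow_le hqle
      exact hne (le_antisymm h2 (hq₀.2 hq'.1 h2))
  obtain ⟨a, b, haL, haq, hbq, habJ, hb2⟩ := exists_pair hJ hfJ hf hq₀1 hL
  let g := a * b
  have hgL : g ∈ L := Ideal.mul_mem_right _ _ haL
  have hgh : g ∈ Ideal.span {h} := (Ideal.mul_le_left.trans Ideal.mul_le_left : L ≤ Ideal.span {h}) hgL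
  have hgN : g ∈ maximalIdeal R ^ N := (Ideal.mul_le_left.trans Ideal.mul_le_right : L ≤ maximalIdeal R ^ N) hgL
  have hgq : ∀ q ∈ others, g ∈ q ^ n q := fun q hq =>
    ((Ideal.prod_le_inf.trans (Finset.inf_le hq) : (∏ q ∈ others, q ^ n q) ≤ q ^ n q)) ((Ideal.mul_le_right : L ≤ ∏ q ∈ others, q ^ n q) hgL)
  have hfg : f + g ≠ 0 := fun h0 => hN (by rw [eq_neg_of_add_eq_zero_left h0]; exact neg_mem hgN)
  have hfgq₀ : f + g ∈ q₀ := add_mem (hq₀.1.2 (Ideal.mem_span_singleton_self f)) (Ideal.mul_mem_left _ _ hbq)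
  have hg2 : algebraMap R (Localization.AtPrime q₀) g ∉ maximalIdeal (Localization.AtPrime q₀) ^ 2 := fun hmem => by
    refine hb2 ((Ideal.unit_mul_mem_iff_mem _ (IsLocalization.map_units (Localization.AtPrime q₀)
      (⟨a, haq⟩ : q₀.primeCompl))).1 ?_)
    rw [← map_mul]
    exact hmem
  have hfg2 : algebraMap R (Localization.AtPrime q₀) (f + g) ∉ maximalIdeal (Localization.AtPrime q₀) ^ 2 := fun hmem => by
    rw [map_add] at hmem
    exact hg2 ((Ideal.add_mem_iff_right _ hbad).1 hmem)
  -- at the other components the order is unchanged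
  have hother : ∀ q ∈ others, f + g ∈ q ∧ ∃ s, s ∉ q ∧ (f + g) ∣ s * f := by
    intro q hq
    have hqS : q ∈ (Ideal.span {f}).minimalPrimes := (Set.Finite.mem_toFinset _).1 (Finset.mem_erase.1 hq).2
    haveI := hqS.isPrime
    haveI := isDVR_localization (height_one_of_minimal hf hqS)
    have hfn : algebraMap R (Localization.AtPrime q) f ∉ maximalIdeal (Localization.AtPrime q) ^ n q := hn q hqS
    have hgn : algebraMap R (Localization.AtPrime q) g ∈ maximalIdeal (Localization.AtPrime q) ^ n q := by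
      rw [← Localization.AtPrime.map_eq_maximalIdeal, ← Ideal.map_pow]
      exact Ideal.mem_map_of_mem _ (hgq q hq)
    obtain ⟨w, hw⟩ : algebraMap R (Localization.AtPrime q) f ∣ algebraMap R (Localization.AtPrime q) g :=
      (ValuationRing.dvd_total _ _).resolve_right fun ⟨w, hw⟩ => hfn (hw ▸ Ideal.mul_mem_right _ _ hgn)
    have hwm : w ∈ maximalIdeal (Localization.AtPrime q) := fun hu => hfn (by
      rw [hw] at hgn; exact (Ideal.mul_unit_mem_iff_mem _ hu).1 hgn)
    obtain ⟨v, hv⟩ : IsUnit (1 + w) := by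
      by_contra hu
      exact (maximalIdeal.isMaximal (Localization.AtPrime q)).ne_top ((Ideal.eq_top_iff_one _).2
        (by simpa using sub_mem (hu : 1 + w ∈ maximalIdeal (Localization.AtPrime q)) hwm))
    refine ⟨add_mem (hqS.1.2 (Ideal.mem_span_singleton_self f)) ?_, exists_dvd_of_mem_span ?_⟩
    · refine (IsLocalization.AtPrime.to_map_mem_maximal_iff (Localization.AtPrime q) q g).1 ?_
      rw [hw]; exact Ideal.mul_mem_left _ _ hwm
    · rw [map_add, hw, Ideal.mem_span_singleton]
      refine ⟨↑v⁻¹, ?_⟩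
      calc algebraMap R (Localization.AtPrime q) f = algebraMap R (Localization.AtPrime q) f * ((v : Localization.AtPrime q) * ↑v⁻¹) := by
            rw [Units.mul_inv, mul_one]
        _ = _ := by rw [hv]; ring
  have hsub : ∀ q ∈ (Ideal.span {f}).minimalPrimes, q ∈ (Ideal.span {f + g}).minimalPrimes := by
    intro q hq
    haveI := hq.isPrime
    refine minimal_of_height_one hfg (height_one_of_minimal hf hq) ?_
    by_cases he : q = q₀
    · exact he ▸ hfgq₀
    · exact (hother q (Finset.mem_erase.2 ⟨he, (Set.Finite.mem_toFinset _).2 hq⟩)).1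
  refine ⟨g, habJ, hgh, hfg, hsub, fun hback => ?_⟩
  have hdvd : (f + g) ∣ f := NormalLib.dvd_of_forall_associatedPrimes fun q hq => by
    haveI := hq.isPrime
    have hq1 := NormalLib.height_eq_one_of_mem_associatedPrimes hfg hq
    have hqS : q ∈ (Ideal.span {f}).minimalPrimes :=
      hback (minimal_of_height_one hfg hq1 (NormalLib.mem_associatedPrimes_quotient_of_le hq))
    by_cases he : q = q₀
    · subst he
      exact exists_dvd_of_mem_span (maximalIdeal_le_span hq₀1
        ((IsLocalization.AtPrime.to_map_mem_maximal_iff _ q (f + g)).2 hfgq₀) hfg2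
        ((IsLocalization.AtPrime.to_map_mem_maximal_iff _ q f).2 (hq₀.1.2 (Ideal.mem_span_singleton_self f))))
    · exact (hother q (Finset.mem_erase.2 ⟨he, (Set.Finite.mem_toFinset _).2 hqS⟩)).2
  obtain ⟨r, hr⟩ := hdvd
  by_cases hu : IsUnit r
  · refine hfg2 ((Ideal.mul_unit_mem_iff_mem _ (hu.map (algebraMap R (Localization.AtPrime q₀)))).1 ?_)
    rw [← map_mul, ← hr]
    exact hbad
  · have h1 : IsUnit (1 - r) := by
      by_contra hu1
      exact (maximalIdeal.isMaximal R).ne_top ((Ideal.eq_top_iff_one _).2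
        (by simpa using add_mem (show r ∈ maximalIdeal R from hu) (show 1 - r ∈ maximalIdeal R from hu1)))
    refine hN ((Ideal.mul_unit_mem_iff_mem _ h1).1 ?_)
    rw [show f * (1 - r) = g * r by linear_combination hr]
    exact Ideal.mul_mem_right _ _ hgN

/-- Boundedness of the number of components in the coset `f₀ + (h)`. -/
theorem exists_bound [IsLocalRing R] (hc : CAlg.IsCatenary R) {f₀ h : R} (hf₀ : f₀ ≠ 0) (hf₀m : f₀ ∈ maximalIdeal R)
    (hh : h ∈ maximalIdeal R) (hhq : ∀ q ∈ (Ideal.span {f₀}).minimalPrimes, h ∉ q) :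
    ∃ M : ℕ, ∀ f : R, f ≠ 0 → f - f₀ ∈ Ideal.span {h} → (Ideal.span {f}).minimalPrimes.ncard ≤ M := by
  classical
  let I₀ : Ideal R := Ideal.span {h} ⊔ Ideal.span {f₀}
  let PS := (I₀.finite_minimalPrimes_of_isNoetherianRing R).toFinset
  let len : Ideal R → ℕ := fun P => if hP : P.IsPrime then
      haveI := hP
      (Module.length (Localization.AtPrime P)
        (Localization.AtPrime P ⧸ I₀.map (algebraMap R (Localization.AtPrime P)))).toNat else 0
  refine ⟨∑ P ∈ PS, len P, fun f hf hff => ?_⟩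
  have hI : Ideal.span {h} ⊔ Ideal.span {f} = I₀ := by
    apply le_antisymm <;> refine sup_le le_sup_left ?_ <;> rw [Ideal.span_singleton_le_iff_mem]
    · rw [show f = (f - f₀) + f₀ by ring]
      exact add_mem (Submodule.mem_sup_left hff) (Submodule.mem_sup_right (Ideal.mem_span_singleton_self f₀))
    · rw [show f₀ = -(f - f₀) + f by ring]
      exact add_mem (Submodule.mem_sup_left (neg_mem hff)) (Submodule.mem_sup_right (Ideal.mem_span_singleton_self f))
  have hfin := (Ideal.span {f}).finite_minimalPrimes_of_isNoetherianRing R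
  rw [Set.ncard_eq_toFinset_card _ hfin]
  have hprops : ∀ q ∈ hfin.toFinset, q.IsPrime ∧ q.height = 1 ∧ h ∉ q ∧ f ∈ q := fun q hq => by
    rw [Set.Finite.mem_toFinset] at hq
    haveI := hq.isPrime
    have hfq := hq.1.2 (Ideal.mem_span_singleton_self f)
    refine ⟨inferInstance, height_one_of_minimal hf hq, fun hhm => ?_, hfq⟩
    have hf₀q : f₀ ∈ q := by
      rw [show f₀ = f - (f - f₀) by ring]
      exact sub_mem hfq ((Ideal.span_singleton_le_iff_mem _).2 hhm hff)
    exact hhq q (minimal_of_height_one hf₀ (height_one_of_minimal hf hq) hf₀q) hhm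
  have hcover : hfin.toFinset ⊆ PS.biUnion fun P => hfin.toFinset.filter fun q => q ≤ P := by
    intro q hq
    obtain ⟨hqp, hq1, hhq', hfq⟩ := hprops q hq
    have hne : q ⊔ Ideal.span {h} ≤ maximalIdeal R :=
      sup_le (le_maximalIdeal hqp.ne_top) ((Ideal.span_singleton_le_iff_mem _).2 hh)
    obtain ⟨P, hP, -⟩ := Ideal.exists_minimalPrimes_le hne
    haveI := hP.isPrime
    have hqP : q ≤ P := le_sup_left.trans hP.1.2
    have hhP : h ∈ P := hP.1.2 (Submodule.mem_sup_right (Ideal.mem_span_singleton_self h))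
    have hqlt : q < P := lt_of_le_of_ne hqP fun e => hhq' (e ▸ hhP)
    have hcov : (⟨q, hqp⟩ : PrimeSpectrum R) ⋖ ⟨P, inferInstance⟩ := by
      refine ⟨hqlt, fun r hr1 hr2 => ?_⟩
      have hr1' : q < r.asIdeal := hr1
      have hr2' : r.asIdeal < P := hr2
      haveI : IsDomain (R ⧸ q) := Ideal.Quotient.isDomain q
      let π := Ideal.Quotient.mk q
      have hker : RingHom.ker π = q := Ideal.mk_ker
      haveI : (P.map π).IsPrime := Ideal.map_isPrime_of_surjective Ideal.Quotient.mk_surjective (by rw [hker]; exact hqP)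
      haveI : (r.asIdeal.map π).IsPrime :=
        Ideal.map_isPrime_of_surjective Ideal.Quotient.mk_surjective (by rw [hker]; exact hr1'.le)
      have hcm : ∀ Q : Ideal R, q ≤ Q → (Q.map π).comap π = Q := fun Q hQ => by
        rw [Ideal.comap_map_of_surjective π Ideal.Quotient.mk_surjective, ← RingHom.ker_eq_comap_bot, hker, sup_eq_left]
        exact hQ
      have hz : π h ≠ 0 := fun h0 => hhq' (Ideal.Quotient.eq_zero_iff_mem.1 h0)
      have hmin : P.map π ∈ (Ideal.span {π h}).minimalPrimes := by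
        refine ⟨⟨inferInstance, (Ideal.span_singleton_le_iff_mem _).2 (Ideal.mem_map_of_mem _ hhP)⟩, fun Q hQ hle => ?_⟩
        haveI := hQ.1
        refine Ideal.map_le_iff_le_comap.2 (hP.2 ⟨Ideal.IsPrime.comap _, sup_le (fun x hx => ?_) ?_⟩
          ((Ideal.comap_mono hle).trans (le_of_eq (hcm P hqP))))
        · rw [Ideal.mem_comap, Ideal.Quotient.eq_zero_iff_mem.2 hx]; exact zero_mem _
        · rw [Ideal.span_singleton_le_iff_mem]; exact hQ.2 (Ideal.mem_span_singleton_self _)
      have hne0 : r.asIdeal.map π ≠ ⊥ := fun h0 => hr1'.not_ge (by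
        rw [← hcm r.asIdeal hr1'.le, h0, ← RingHom.ker_eq_comap_bot, hker])
      have := eq_of_le_of_height_eq_one (R := R ⧸ q) (height_one_of_minimal hz hmin) (Ideal.map_mono hr2'.le) hne0
      refine hr2'.ne ?_
      rw [← hcm r.asIdeal hr1'.le, this, hcm P hqP]
    have hP2 : P.height = q.height + 1 := CatLib.isCatenary_height_covBy hc hcov
    have hI₀P : I₀ ≤ P := by
      rw [← hI]
      exact sup_le ((Ideal.span_singleton_le_iff_mem _).2 hhP) ((Ideal.span_singleton_le_iff_mem _).2 (hqP hfq))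
    obtain ⟨P', hP', hP'P⟩ := Ideal.exists_minimalPrimes_le hI₀P
    haveI := hP'.isPrime
    refine Finset.mem_biUnion.2 ⟨P', (Set.Finite.mem_toFinset _).2 hP', Finset.mem_filter.2 ⟨hq, ?_⟩⟩
    have h2 : P' = P := by
      have hfP' : f ∈ P' := (hI.le.trans hP'.1.2) (Submodule.mem_sup_right (Ideal.mem_span_singleton_self f))
      obtain ⟨q', hq', hq'le⟩ := Ideal.exists_minimalPrimes_le ((Ideal.span_singleton_le_iff_mem _).2 hfP')
      have hq'' := hprops q' ((Set.Finite.mem_toFinset _).2 hq')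
      haveI := hq''.1
      have hlt : q' < P' := lt_of_le_of_ne hq'le fun e =>
        hq''.2.2.1 (e ▸ hP'.1.2 (Submodule.mem_sup_left (Ideal.mem_span_singleton_self h)))
      have h3 := Order.add_one_le_of_lt (Ideal.height_strict_mono_of_isPrime_of_isPrime hlt)
      rw [hq''.2.1] at h3
      rw [hq1] at hP2
      exact Ideal.eq_of_le_of_height_le _ hP'P (hP2.le.trans h3)
    rw [h2]; exact hqP
  refine (Finset.card_le_card hcover).trans (Finset.card_biUnion_le.trans (Finset.sum_le_sum fun P hP => ?_))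
  rw [Set.Finite.mem_toFinset] at hP
  haveI := hP.isPrime
  have hb := card_le_length P (hP.1.2 (Submodule.mem_sup_left (Ideal.mem_span_singleton_self h))) (Ideal.span {f})
    (hfin.toFinset.filter fun q => q ≤ P)
    (fun q hq => by
      obtain ⟨hq1, hq2⟩ := Finset.mem_filter.1 hq
      obtain ⟨a, b, c, d⟩ := hprops q hq1
      exact ⟨a, (Ideal.span_singleton_le_iff_mem _).2 d, c, hq2⟩)
    (fun q hq q' hq' hle => le_antisymm hle
      (((Set.Finite.mem_toFinset _).1 (Finset.mem_filter.1 hq).1).2 ((Set.Finite.mem_toFinset _).1 (Finset.mem_filter.1 hq').1).1 hle))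
  rw [hI, ← ENat.coe_toNat (length_ne_top_of_minimal hP), Nat.cast_le] at hb
  simpa only [len, dif_pos hP.isPrime] using hb

/-- The main theorem. -/
theorem exists_reduced_principal [IsLocalRing R] (hc : CAlg.IsCatenary R) (J : Ideal R) (hJ : J.IsRadical) (hJ0 : J ≠ ⊥) :
    ∃ f ∈ J, f ≠ 0 ∧ IsReduced (R ⧸ Ideal.span {f}) := by
  classical
  by_cases htop : J = ⊤
  · refine ⟨1, by simp [htop], one_ne_zero, ?_⟩
    rw [Ideal.span_singleton_one]
    haveI : Subsingleton (R ⧸ (⊤ : Ideal R)) := Ideal.Quotient.subsingleton_iff.2 rfl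
    exact ⟨fun x _ => Subsingleton.elim _ _⟩
  have hJm := le_maximalIdeal htop
  obtain ⟨f₀, hf₀J, hf₀⟩ := Submodule.exists_mem_ne_zero_of_ne_bot hJ0
  by_cases hm1 : maximalIdeal R ∈ (Ideal.span {f₀}).minimalPrimes
  · have h1 := height_one_of_minimal hf₀ hm1
    haveI : IsDiscreteValuationRing (Localization.AtPrime (maximalIdeal R)) := isDVR_localization h1
    have hJeq : J = maximalIdeal R := by
      refine le_antisymm hJm ?_
      rw [← hJ.radical, ← Ideal.sInf_minimalPrimes]
      refine le_sInf fun p hp => ?_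
      haveI := hp.isPrime
      exact (eq_of_le_of_height_eq_one h1 (le_maximalIdeal hp.isPrime.ne_top) fun h0 =>
        hf₀ (Ideal.mem_bot.1 (h0 ▸ hp.1.2 hf₀J))).ge
    obtain ⟨f, hfm, hf2⟩ : ∃ f ∈ maximalIdeal R, algebraMap R (Localization.AtPrime (maximalIdeal R)) f ∉
        maximalIdeal (Localization.AtPrime (maximalIdeal R)) ^ 2 := by
      by_contra hcon
      push Not at hcon
      have hle : maximalIdeal (Localization.AtPrime (maximalIdeal R)) ≤
          maximalIdeal (Localization.AtPrime (maximalIdeal R)) • maximalIdeal (Localization.AtPrime (maximalIdeal R)) := by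
        rw [smul_eq_mul, ← pow_two]
        conv_lhs => rw [← Localization.AtPrime.map_eq_maximalIdeal]
        exact Ideal.map_le_iff_le_comap.2 hcon
      exact IsDiscreteValuationRing.not_a_field (Localization.AtPrime (maximalIdeal R))
        (Submodule.eq_bot_of_le_smul_of_le_jacobson_bot _ _ (IsNoetherian.noetherian _) hle
          (le_of_eq (IsLocalRing.jacobson_eq_maximalIdeal _ bot_ne_top).symm))
    have hf : f ≠ 0 := fun h0 => hf2 (by rw [h0, map_zero]; exact zero_mem _)
    refine ⟨f, hJeq ▸ hfm, hf, isReduced_quotient_of_order_one hf fun q _ hq => ?_⟩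
    obtain rfl : q = maximalIdeal R := eq_of_le_of_height_eq_one h1 (le_maximalIdeal hq.isPrime.ne_top) fun h0 =>
      hf (Ideal.mem_bot.1 (h0 ▸ hq.1.2 (Ideal.mem_span_singleton_self f)))
    exact hf2
  obtain ⟨h, hh, hhq⟩ : ∃ h ∈ maximalIdeal R, ∀ q ∈ (Ideal.span {f₀}).minimalPrimes, h ∉ q := by
    have hfin := (Ideal.span {f₀}).finite_minimalPrimes_of_isNoetherianRing R
    have : ¬ ((maximalIdeal R : Set R) ⊆ ⋃ q ∈ (hfin.toFinset : Set (Ideal R)), (q : Set R)) := by
      rw [Ideal.subset_union_prime (f := fun q : Ideal R => q) ⊥ ⊥ (fun q hq _ _ => ((Set.Finite.mem_toFinset _).1 hq).isPrime)]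
      rintro ⟨q, hq, hle⟩
      rw [Set.Finite.mem_toFinset] at hq
      exact hm1 ((le_antisymm hle (le_maximalIdeal hq.isPrime.ne_top)) ▸ hq)
    obtain ⟨h, hh, hh'⟩ := Set.not_subset.1 this
    exact ⟨h, hh, fun q hq hmem => hh' (Set.mem_biUnion (Finset.mem_coe.2 ((Set.Finite.mem_toFinset _).2 hq)) hmem)⟩
  obtain ⟨M, hM⟩ := exists_bound hc hf₀ (hJm hf₀J) hh hhq
  by_contra hcon
  push Not at hcon
  have key : ∀ k : ℕ, ∃ f, f ∈ J ∧ f ≠ 0 ∧ f - f₀ ∈ Ideal.span {h} ∧ k ≤ (Ideal.span {f}).minimalPrimes.ncard := by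
    intro k
    induction k with
    | zero => exact ⟨f₀, hf₀J, hf₀, by simp, Nat.zero_le _⟩
    | succ k ih =>
      obtain ⟨f, hfJ, hf, hfh, hk⟩ := ih
      obtain ⟨q₀, hq₀p, hq₀, hbad⟩ : ∃ (q₀ : Ideal R) (_ : q₀.IsPrime), q₀ ∈ (Ideal.span {f}).minimalPrimes ∧
          algebraMap R (Localization.AtPrime q₀) f ∈ maximalIdeal (Localization.AtPrime q₀) ^ 2 := by
        by_contra hno
        push Not at hno
        exact hcon f hfJ hf (isReduced_quotient_of_order_one hf fun q hqp hq => hno q hqp hq)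
      have hhf : ∀ q ∈ (Ideal.span {f}).minimalPrimes, h ∉ q := fun q hq hhm => by
        haveI := hq.isPrime
        have hfq := hq.1.2 (Ideal.mem_span_singleton_self f)
        have hf₀q : f₀ ∈ q := by
          rw [show f₀ = f - (f - f₀) by ring]
          exact sub_mem hfq ((Ideal.span_singleton_le_iff_mem _).2 hhm hfh)
        exact hhq q (minimal_of_height_one hf₀ (height_one_of_minimal hf hq) hf₀q) hhm
      obtain ⟨g, hgJ, hgh, hfg, hlt⟩ := exists_more_components hJ hJm hfJ hf hh hhf q₀ hq₀ hbad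
      refine ⟨f + g, add_mem hfJ hgJ, hfg, ?_, Nat.succ_le_of_lt (hk.trans_lt ?_)⟩
      · rw [show f + g - f₀ = (f - f₀) + g by ring]
        exact add_mem hfh hgh
      · exact Set.ncard_lt_ncard hlt ((Ideal.span {f + g}).finite_minimalPrimes_of_isNoetherianRing R)
  obtain ⟨f, -, hf, hfh, hk⟩ := key (M + 1)
  have := hM f hf hfh
  omega

end ReducedDivLib
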