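import Mathlib.RingTheory.Length
import Mathlib.RingTheory.Nakayama
import Mathlib.RingTheory.Ideal.MinimalPrime.Noetherian
import Mathlib.RingTheory.KrullDimension.Zero
import Mathlib.RingTheory.FiniteLength
import Mathlib.RingTheory.HopkinsLevitzki
import Mathlib.RingTheory.Localization.AtPrime.Basic
import Mathlib.RingTheory.Localization.Submodule
import Mathlib.RingTheory.Noetherian.Defs
import Mathlib.RingTheory.Ideal.Quotient.Noetherian

/-!
# Counting incomparable primes by the length of a slice
-/

set_option backward.isDefEq.respectTransparency false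
set_option backward.isDefEq.respectTransparency.types false

universe u

open IsLocalRing

namespace ReducedDivLib

variable {A : Type u} [CommRing A]

/-- The slice length of `M` relative to `I` and `h`. -/
noncomputable def slice (h : A) (I M : Ideal A) : ℕ∞ :=
  Module.length A (M ⧸ Submodule.comap M.subtype (Ideal.span {h} * M ⊔ I))

theorem card_add_slice_le [IsNoetherianRing A] [IsLocalRing A] {h : A} (hh : h ∈ maximalIdeal A) (I : Ideal A)
    (s : Finset (Ideal A)) : (∀ q ∈ s, q.IsPrime ∧ I ≤ q ∧ h ∉ q) → (∀ q ∈ s, ∀ q' ∈ s, q' ≤ q → q' = q) →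
      (s.card : ℕ∞) + slice h I (s.inf id) ≤ slice h I ⊤ := by
  classical
  induction s using Finset.induction with
  | empty => intro _ _; simp
  | insert q s hqs ih =>
    intro hp hinc
    obtain ⟨hqp, hIq, hhq⟩ := hp q (Finset.mem_insert_self _ _)
    have ih' := ih (fun q' hq' => hp q' (Finset.mem_insert_of_mem hq'))
      (fun a ha b hb => hinc a (Finset.mem_insert_of_mem ha) b (Finset.mem_insert_of_mem hb))
    let M := s.inf id
    have hMI : I ≤ M := Finset.le_inf fun q' hq' => (hp q' (Finset.mem_insert_of_mem hq')).2.1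
    have hMq : ¬ M ≤ q := fun hle => by
      obtain ⟨q', hq', hle'⟩ := hqp.inf_le'.1 hle
      exact hqs (hinc q (Finset.mem_insert_self _ _) q' (Finset.mem_insert_of_mem hq') hle' ▸ hq')
    let M' := q ⊓ M
    rw [Finset.inf_insert, id_eq, Finset.card_insert_of_notMem hqs, Nat.cast_succ]
    let j : M' →ₗ[A] M := Submodule.inclusion inf_le_right
    let K := Submodule.comap M.subtype (Ideal.span {h} * M ⊔ I)
    let K' := Submodule.comap M'.subtype (Ideal.span {h} * M' ⊔ I)
    have hK : K' ≤ K.comap j := fun x hx =>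
      (sup_le_sup_right (mul_le_mul' le_rfl inf_le_right) I : Ideal.span {h} * M' ⊔ I ≤ Ideal.span {h} * M ⊔ I) hx
    let f : (M' ⧸ K') →ₗ[A] (M ⧸ K) := Submodule.mapQ K' K j hK
    have hf : Function.Injective f := by
      rw [← LinearMap.ker_eq_bot, Submodule.eq_bot_iff]
      intro z hz
      obtain ⟨⟨x, hxM'⟩, rfl⟩ := Submodule.Quotient.mk_surjective _ z
      rw [LinearMap.mem_ker, Submodule.mapQ_apply, Submodule.Quotient.mk_eq_zero] at hz
      rw [Submodule.Quotient.mk_eq_zero]
      have hz' : x ∈ Ideal.span {h} * M ⊔ I := hz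
      obtain ⟨w, hw, i, hi, hwi⟩ := Submodule.mem_sup.1 hz'
      obtain ⟨y, hy, rfl⟩ := Ideal.mem_span_singleton_mul.1 hw
      have hyq : y ∈ q := by
        refine (hqp.mem_or_mem (?_ : h * y ∈ q)).resolve_left hhq
        rw [eq_sub_of_add_eq hwi]
        exact sub_mem hxM'.1 (hIq hi)
      show x ∈ Ideal.span {h} * M' ⊔ I
      rw [← hwi]
      exact add_mem (Submodule.mem_sup_left (Ideal.mul_mem_mul (Ideal.mem_span_singleton_self h) ⟨hyq, hy⟩))
        (Submodule.mem_sup_right hi)
    have hne : Nontrivial ((M ⧸ K) ⧸ LinearMap.range f) := by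
      rw [Submodule.Quotient.nontrivial_iff]
      intro htop
      refine hMq (le_trans ?_ (inf_le_left : M' ≤ q))
      refine Submodule.le_of_le_smul_of_le_jacobson_bot (I := Ideal.span {h}) (IsNoetherian.noetherian M) ?_ fun x hx => ?_
      · rw [IsLocalRing.jacobson_eq_maximalIdeal _ bot_ne_top, Ideal.span_singleton_le_iff_mem]
        exact hh
      · obtain ⟨z, hz⟩ := LinearMap.range_eq_top.1 htop (Submodule.Quotient.mk (⟨x, hx⟩ : M))
        obtain ⟨⟨y, hy⟩, rfl⟩ := Submodule.Quotient.mk_surjective _ z
        rw [Submodule.mapQ_apply, Submodule.Quotient.eq] at hz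
        have hz' : y - x ∈ Ideal.span {h} * M ⊔ I := hz
        obtain ⟨w, hw, i, hi, hwi⟩ := Submodule.mem_sup.1 hz'
        rw [show x = (y - i) + -w by linear_combination hwi, smul_eq_mul]
        exact add_mem (Submodule.mem_sup_left (sub_mem hy ⟨hIq hi, hMI hi⟩)) (Submodule.mem_sup_right (neg_mem hw))
    have hstep : slice h I M' + 1 ≤ slice h I M := by
      show Module.length A (M' ⧸ K') + 1 ≤ Module.length A (M ⧸ K)
      rw [Module.length_eq_add_of_exact f (LinearMap.range f).mkQ hf (Submodule.mkQ_surjective _)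
        (LinearMap.exact_map_mkQ_range f)]
      exact add_le_add le_rfl (Order.one_le_iff_pos.2 Module.length_pos)
    refine le_trans ?_ ih'
    rw [add_assoc, add_comm 1]
    exact add_le_add le_rfl hstep

theorem slice_top (h : A) (I : Ideal A) :
    slice h I ⊤ = Module.length A (A ⧸ (Ideal.span {h} ⊔ I)) := by
  refine LinearEquiv.length_eq (Submodule.Quotient.equiv _ _ (Submodule.topEquiv (R := A) (M := A)) ?_)
  ext x
  simp [Ideal.mul_top]

/-- The number of primes of a family inside `P` is bounded by the slice length at `P`. -/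
theorem card_le_length [IsNoetherianRing A] (P : Ideal A) [P.IsPrime] {h : A} (hh : h ∈ P) (I : Ideal A)
    (s : Finset (Ideal A)) (hs : ∀ q ∈ s, q.IsPrime ∧ I ≤ q ∧ h ∉ q ∧ q ≤ P)
    (hinc : ∀ q ∈ s, ∀ q' ∈ s, q' ≤ q → q' = q) :
    (s.card : ℕ∞) ≤ Module.length (Localization.AtPrime P)
      (Localization.AtPrime P ⧸ (Ideal.span {h} ⊔ I).map (algebraMap A (Localization.AtPrime P))) := by
  classical
  let AP := Localization.AtPrime P
  haveI : IsNoetherianRing AP := IsLocalization.isNoetherianRing P.primeCompl AP inferInstance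
  have hcm : ∀ q ∈ s, (q.map (algebraMap A AP)).IsPrime ∧ (q.map (algebraMap A AP)).comap (algebraMap A AP) = q := by
    intro q hq
    have hd : Disjoint (P.primeCompl : Set A) q := Set.disjoint_left.2 fun a ha haq => ha ((hs q hq).2.2.2 haq)
    exact ⟨IsLocalization.isPrime_of_isPrime_disjoint P.primeCompl AP q (hs q hq).1 hd,
      IsLocalization.comap_map_of_isPrime_disjoint P.primeCompl AP (hs q hq).1 hd⟩
  let t := s.image fun q => q.map (algebraMap A AP)
  have hcard : t.card = s.card := Finset.card_image_of_injOn fun a ha b hb e => by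
    have e' : a.map (algebraMap A AP) = b.map (algebraMap A AP) := e
    rw [← (hcm a ha).2, e', (hcm b hb).2]
  have h1 := card_add_slice_le (A := AP) (h := algebraMap A AP h)
    ((IsLocalization.AtPrime.to_map_mem_maximal_iff AP P h).2 hh) (I.map (algebraMap A AP)) t ?_ ?_
  · rw [slice_top, hcard] at h1
    rw [Ideal.map_sup, Ideal.map_span, Set.image_singleton]
    exact le_self_add.trans h1
  · intro q hq
    obtain ⟨a, ha, rfl⟩ := Finset.mem_image.1 hq
    refine ⟨(hcm a ha).1, Ideal.map_mono (hs a ha).2.1, fun hmem => (hs a ha).2.2.1 ?_⟩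
    rw [← (hcm a ha).2]
    exact hmem
  · intro q hq q' hq' hle
    obtain ⟨a, ha, rfl⟩ := Finset.mem_image.1 hq
    obtain ⟨b, hb, rfl⟩ := Finset.mem_image.1 hq'
    have := Ideal.comap_mono (f := algebraMap A AP) hle
    rw [(hcm a ha).2, (hcm b hb).2] at this
    rw [hinc a ha b hb this]

theorem length_ne_top_of_minimal [IsNoetherianRing A] {P I : Ideal A} [P.IsPrime] (hP : P ∈ I.minimalPrimes) :
    Module.length (Localization.AtPrime P)
      (Localization.AtPrime P ⧸ I.map (algebraMap A (Localization.AtPrime P))) ≠ ⊤ := by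
  let AP := Localization.AtPrime P
  haveI : IsNoetherianRing AP := IsLocalization.isNoetherianRing P.primeCompl AP inferInstance
  let K := I.map (algebraMap A AP)
  haveI : Ring.KrullDimLE 0 (AP ⧸ K) := Ring.KrullDimLE.mk₀ fun Q hQ => by
    let π := Ideal.Quotient.mk K
    haveI := hQ.comap π
    have hle : I ≤ (Q.comap π).comap (algebraMap A AP) := fun a ha => by
      rw [Ideal.mem_comap, Ideal.mem_comap, Ideal.Quotient.eq_zero_iff_mem.2 (Ideal.mem_map_of_mem _ ha)]
      exact zero_mem _
    have hP' : (Q.comap π).comap (algebraMap A AP) ≤ P := fun a ha => by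
      by_contra haP
      exact (inferInstance : (Q.comap π).IsPrime).ne_top
        (Ideal.eq_top_of_isUnit_mem _ ha (IsLocalization.map_units AP (⟨a, haP⟩ : P.primeCompl)))
    have he : (Q.comap π).comap (algebraMap A AP) = P :=
      le_antisymm hP' (hP.2 ⟨Ideal.IsPrime.comap _, hle⟩ hP')
    have hmax : maximalIdeal AP = Q.comap π := by
      rw [← Localization.AtPrime.map_eq_maximalIdeal]
      exact (congrArg (Ideal.map (algebraMap A AP)) he.symm).trans (IsLocalization.map_comap P.primeCompl AP (Q.comap π))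
    have hQm : (Q.comap π).IsMaximal := hmax ▸ maximalIdeal.isMaximal AP
    rw [← Ideal.map_comap_of_surjective π Ideal.Quotient.mk_surjective Q]
    refine (Ideal.map_eq_top_or_isMaximal_of_surjective π Ideal.Quotient.mk_surjective hQm).resolve_left ?_
    rw [Ideal.map_comap_of_surjective π Ideal.Quotient.mk_surjective Q]
    exact hQ.ne_top
  haveI : IsArtinianRing (AP ⧸ K) := isArtinianRing_iff_isNoetherianRing_krullDimLE_zero.2 ⟨inferInstance, inferInstance⟩
  haveI : IsArtinian AP (AP ⧸ K) := isArtinian_of_surjective_algebraMap (R := AP ⧸ K) Ideal.Quotient.mk_surjective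
  exact Module.length_ne_top

end ReducedDivLib
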